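import Cfsg.Agent.Lib.H17.M22M.Model.Tabs

set_option autoImplicit false
set_option maxRecDepth 100000

/-! # The monomial model: word checks (generated) -/

namespace Cfsg.Agent.Lib.H17.M22M.Model

open Cfsg.Agent.Lib.H17.MonoModel

theorem wchk14 : checkWordM (List.map tabs [1, 5, 5, 1, 5, 5, 1, 5, 5]) 6 8064 = true := by
  decide +kernel

theorem wchk15 : checkWordM (List.map tabs [3, 5, 3, 5, 3, 5, 3, 5, 3, 5]) 6 8064 = true := by
  decide +kernel

theorem wchk16 : checkWordM (List.map tabs [1, 2, 5, 0, 4, 4, 1, 2, 5, 0, 4, 4]) 4 8064 = true := by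
  decide +kernel

theorem wchk17 : checkWordM (List.map tabs [1, 3, 5, 0, 2, 4, 4, 0, 2, 4, 4, 1, 4]) 9 8064 = true := by
  decide +kernel

theorem wchk18 : checkWordM (List.map tabs [1, 1, 2, 2, 1, 3, 3]) 0 8064 = true := by
  decide +kernel

theorem wchk19 : checkWordM (List.map tabs [1, 3, 5, 2, 4, 3]) 0 8064 = true := by
  decide +kernel

theorem wchk20 : checkWordM (List.map tabs [1, 1, 2, 5, 2, 2, 4]) 0 8064 = true := by
  decide +kernel

theorem wchk21 : checkWordM (List.map tabs [1, 5, 3, 4, 0, 2, 2]) 0 8064 = true := by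
  decide +kernel

theorem wchk22 : checkWordM (List.map tabs [1, 1, 1, 1, 3, 0, 2]) 0 8064 = true := by
  decide +kernel

theorem wchk23 : checkWordM (List.map tabs [1, 3, 0, 3, 3, 5, 3, 4]) 0 8064 = true := by
  decide +kernel

theorem wchk24 : checkWordM (List.map tabs [1, 3, 3, 0, 2, 1, 2]) 0 8064 = true := by
  decide +kernel

theorem wchk25 : checkWordM (List.map tabs [1, 1, 1, 3, 1, 1, 2]) 0 8064 = true := by
  decide +kernel

theorem wchk26 : checkWordM (List.map tabs [1, 5, 3, 3, 4, 0, 3]) 0 8064 = true := by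
  decide +kernel

theorem wchk27 : checkWordM (List.map tabs [1, 1, 5, 2, 4, 1, 5, 3, 4]) 0 8064 = true := by
  decide +kernel

end Cfsg.Agent.Lib.H17.M22M.Model
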